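import Cfsg.Agent.TransUnique.Module
import Cfsg.Agent.ThreeTrans.Basic

/-!
# The module given by an abelian normal subgroup of exponent two

For a class of 3-transpositions, the operators on such a subgroup containing its own centraliser
satisfy the relations `Rel`.
-/

set_option autoImplicit false
set_option linter.unusedSectionVars false

open Cfsg
open scoped IsMulCommutative

namespace Cfsg.Agent.TransUnique

variable {G : Type*} [Group G] (V : Subgroup G) [V.Normal] [IsMulCommutative V]

/-- The conjugation representation on `V`. -/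
def rep : G →* AddMonoid.End (Additive V) where
  toFun g := MonoidHom.toAdditive (MulAut.conjNormal g : V ≃* V).toMonoidHom
  map_one' := by ext a; simp [MonoidHom.toAdditive]; rfl
  map_mul' g h := by ext a; simp [MonoidHom.toAdditive]; rfl

/-- The inclusion of `V`. -/
def incl (m : Additive V) : G := ((Additive.toMul m : V) : G)

variable {V}

theorem incl_mem (m : Additive V) : incl V m ∈ V := (Additive.toMul m).2

theorem incl_add (m n : Additive V) : incl V (m + n) = incl V m * incl V n := rfl

theorem incl_zero : incl V (0 : Additive V) = 1 := rfl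

theorem incl_eq_one {m : Additive V} : incl V m = 1 ↔ m = 0 := by
  rw [incl, OneMemClass.coe_eq_one]
  exact Iff.rfl

theorem incl_rep (g : G) (m : Additive V) : incl V (rep V g m) = g * incl V m * g⁻¹ := rfl

theorem exists_incl {v : G} (hv : v ∈ V) : ∃ m : Additive V, incl V m = v :=
  ⟨Additive.ofMul ⟨v, hv⟩, rfl⟩

theorem incl_comm (m : Additive V) {v : G} (hv : v ∈ V) : Commute (incl V m) v :=
  congrArg Subtype.val (mul_comm (Additive.toMul m) ⟨v, hv⟩)

theorem rep_of_mem {x : G} (hx : x ∈ V) (m : Additive V) : rep V x m = m := by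
  apply Additive.toMul.injective
  apply Subtype.ext
  show incl V (rep V x m) = incl V m
  rw [incl_rep, ← (incl_comm m hx).eq, mul_inv_cancel_right]

theorem mul_incl_mul (x z : G) (hz : z * z = 1) (w w' : Additive V) :
    (x * incl V w) * (z * incl V w') = (x * z) * incl V (rep V z w + w') := by
  rw [incl_add, incl_rep, inv_eq_of_mul_eq_one_left hz]
  simp only [mul_assoc, ← mul_assoc z z, hz, one_mul]


theorem sq_incl (x : G) (k : Additive V) :
    (x * incl V k) ^ 2 = x ^ 2 * incl V (rep V x⁻¹ k + k) := by
  rw [incl_add, incl_rep, inv_inv, sq, sq]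
  group

theorem cube_incl (x : G) (k : Additive V) :
    (x * incl V k) ^ 3 = x ^ 3 * incl V (rep V (x⁻¹ * x⁻¹) k + rep V x⁻¹ k + k) := by
  simp only [incl_add, incl_rep, inv_inv, mul_inv_rev, pow_succ, pow_zero, one_mul]
  group

/-- `y * w` lies in the class `S`. -/
def IsLift (V : Subgroup G) [V.Normal] (S : Set G) (y : G) (w : Additive V) : Prop :=
  y * incl V w ∈ S

variable {S : Set G} {y z : G}

theorem two_of_exp (hexp : ∀ v ∈ V, v * v = 1) (m : Additive V) : m + m = 0 :=
  incl_eq_one.1 (hexp _ (incl_mem m))

theorem IsLift.conj (hexp : ∀ v ∈ V, v * v = 1) (hS : ∀ g : G, ∀ s ∈ S, g * s * g⁻¹ ∈ S)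
    (hy : y * y = 1) {w : Additive V} (h : IsLift V S y w) (u : Additive V) :
    IsLift V S y (op (rep V) y u + w) := by
  have h1 := hS (incl V u) _ h
  rw [show incl V u * (y * incl V w) * (incl V u)⁻¹ =
    y * ((y⁻¹ * incl V u * y) * (incl V u * incl V w)) by
      rw [inv_eq_of_mul_eq_one_left (hexp _ (incl_mem u)), (incl_comm u (incl_mem w)).eq]
      group,
    inv_eq_of_mul_eq_one_left hy] at h1
  have e : op (rep V) y u + w = rep V y u + (u + w) := by rw [op_apply, add_assoc]
  rw [IsLift, e, incl_add, incl_add, incl_rep, inv_eq_of_mul_eq_one_left hy]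
  exact h1

theorem op_lift_self (hS : IsThreeTranspositionSet S)
    (hy : y * y = 1) {w : Additive V} (h : IsLift V S y w) : op (rep V) y w = 0 := by
  have h2 := ThreeTrans.mul_self hS h
  rw [mul_incl_mul y y hy, hy, one_mul, incl_eq_one] at h2
  exact h2

theorem eq_one_of_pow_three (hexp : ∀ v ∈ V, v * v = 1) {x : G} (h3 : x ^ 3 = 1)
    (hx : x ^ 2 ∈ V) : x = 1 := by
  have h4 := hexp _ hx
  rw [← pow_add] at h4
  calc x = x ^ (2 + 2) := by rw [show 2 + 2 = 3 + 1 from rfl, pow_succ, h3, one_mul]
    _ = 1 := h4

/-- The relation between two lifts over two non-commuting involutions. -/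
theorem lift_pair (hexp : ∀ v ∈ V, v * v = 1) (hS : IsThreeTranspositionSet S) (hy : y * y = 1)
    (hz : z * z = 1) (hyz : (y * z) ^ 3 = 1) (hne : y * z ≠ 1) {w w' : Additive V}
    (hw : IsLift V S y w) (hw' : IsLift V S z w') :
    rep V (y * z) (rep V z w + w') + rep V (z * y) (rep V z w + w') + (rep V z w + w') = 0 := by
  have hzy : (y * z)⁻¹ = z * y := by
    rw [mul_inv_rev, inv_eq_of_mul_eq_one_left hy, inv_eq_of_mul_eq_one_left hz]
  rcases hS.2 _ hw _ hw' with h | h
  · rw [mul_incl_mul y z hz, sq_incl] at h
    refine absurd (eq_one_of_pow_three hexp hyz ?_) hne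
    rw [mul_eq_one_iff_eq_inv.1 h]
    exact V.inv_mem (incl_mem _)
  · rw [mul_incl_mul y z hz, cube_incl, hyz, one_mul, incl_eq_one] at h
    have e : (y * z)⁻¹ * (y * z)⁻¹ = y * z := by
      rw [← mul_inv_rev, inv_eq_iff_mul_eq_one, ← hyz]
      simp only [pow_succ, pow_zero, one_mul, mul_assoc]
    rwa [e, hzy] at h

theorem rel_of_class (hexp : ∀ v ∈ V, v * v = 1) (hS : IsThreeTranspositionClass S) :
    Rel (rep V) S := by
  have hT := hS.1
  have two := two_of_exp hexp
  have hc := ThreeTrans.class_conj hS
  have sq : ∀ y ∈ S, ∀ m, op (rep V) y (op (rep V) y m) = 0 := by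
    intro y hy m
    rw [op_apply, op_apply, map_add, ← rho_mul_apply, ThreeTrans.mul_self hT hy, rho_one_apply,
      add_comm m, two]
  have zero : ∀ y ∈ S, IsLift V S y (0 : Additive V) := fun y hy => by
    rw [IsLift, incl_zero, mul_one]; exact hy
  have rho : ∀ (g : G) (m : Additive V), rep V g m = op (rep V) g m + m := fun g m => by
    rw [op_apply, add_assoc, two, add_zero]
  refine ⟨two, fun y hy z hz hyz m => ?_, fun y hy z hz hyz m => ?_⟩
  · have hy2 := ThreeTrans.mul_self hT hy
    have hz2 := ThreeTrans.mul_self hT hz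
    set u := op (rep V) z m with hu
    have hz' : IsLift V S z u := by
      simpa using (zero z hz).conj hexp hc hz2 m
    by_cases h : Commute y (z * incl V u)
    · have h1 : Commute y (incl V u) := by
        have := (hyz.inv_right).mul_right h
        rwa [inv_mul_cancel_left] at this
      have h2 : rep V y u = u := by
        apply Additive.toMul.injective
        apply Subtype.ext
        show incl V (rep V y u) = incl V u
        rw [incl_rep, h1.eq, mul_inv_cancel_right]
      rw [op_apply, h2, two]
    · have h3 := ThreeTrans.cube_of_not_commute hT hy hz' h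
      rw [← mul_assoc, cube_incl] at h3
      have h2 := (ThreeTrans.sq_eq_one_iff hT hy hz).2 hyz
      rw [show (y * z) ^ 3 = (y * z) ^ 2 * (y * z) from pow_succ _ 2, h2, one_mul] at h3
      have hyzV : y * z ∈ V := by
        rw [mul_eq_one_iff_eq_inv.1 h3]; exact V.inv_mem (incl_mem _)
      have e : rep V y u = rep V z u := by
        have := rep_of_mem hyzV (rep V z u)
        rwa [← rho_mul_apply, mul_assoc, hz2, mul_one] at this
      rw [op_apply, e, ← op_apply, hu, sq z hz]
  · have hy2 := ThreeTrans.mul_self hT hy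
    have hz2 := ThreeTrans.mul_self hT hz
    set u := op (rep V) y m with hu
    have hy' : IsLift V S y u := by
      simpa using (zero y hy).conj hexp hc hy2 m
    have h := lift_pair hexp hT hy2 hz2 (ThreeTrans.cube_of_not_commute hT hy hz hyz) (fun h =>
      hyz (by rw [mul_eq_one_iff_eq_inv.1 h, ThreeTrans.inv_eq hT hz])) hy' (zero z hz)
    have hau : op (rep V) y u = 0 := sq y hy m
    rw [add_zero, rho_mul_apply, ← rho_mul_apply (rep V) z z, hz2, rho_one_apply,
      rho_mul_apply, rho y u, hau, zero_add] at h
    simp only [rho z, rho y, map_add, hau, zero_add, add_zero, sq z hz] at h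
    set a := op (rep V) y
    set b := op (rep V) z
    have hr : b (u + a (b u)) = u + a (b u) := by
      apply (fun p q (e : p + q = (0 : Additive V)) =>
        show p = q by rw [← add_zero p, ← two q, ← add_assoc, e, zero_add])
      rw [map_add, ← h]
      rw [show u + (b (a (b u)) + b u + (a (b u) + (b u + u))) + (b u + u) =
        (b u + b (a (b u)) + (u + a (b u))) + ((b u + b u) + (u + u)) by abel, two, two,
        add_zero, add_zero]
    have h0 : u + a (b u) = 0 := by
      have h1 := sq z hz (u + a (b u))
      change b (b (u + a (b u))) = 0 at h1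
      rwa [hr, hr] at h1
    exact (show a (b u) = u by rw [← add_zero (a (b u)), ← two u, ← add_assoc, add_comm (a (b u)) u,
      h0, zero_add])

end Cfsg.Agent.TransUnique
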