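import Cfsg.Agent.TransUnique.Kernel
import Cfsg.Agent.TransUnique.Lift
import Cfsg.Agent.ThreeTrans.Central

/-!
# Uniqueness of the class of 3-transpositions over a self-centralising elementary abelian 2-core
-/

set_option autoImplicit false
set_option linter.unusedSectionVars false

open Cfsg
open scoped IsMulCommutative

namespace Cfsg.Agent.TransUnique

universe u

variable {G : Type u} [Group G] {D E : Set G}

/-- The elements trivial on each irreducible module satisfying the relations of `D` and `E`. -/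
def factorKernel (D E : Set G) : Subgroup G where
  carrier := {g | ∀ (M : Type u) [AddCommGroup M] [Finite M] (ρ : G →* AddMonoid.End M),
    Rel ρ D → Rel ρ E →
      (∀ W : AddSubgroup M, (∀ g : G, ∀ m ∈ W, ρ g m ∈ W) → W = ⊥ ∨ W = ⊤) → ∀ m : M, ρ g m = m}
  one_mem' := fun M _ _ ρ _ _ _ m => rho_one_apply ρ m
  mul_mem' := fun {a b} ha hb M _ _ ρ h1 h2 h3 m => by
    rw [rho_mul_apply, hb M ρ h1 h2 h3, ha M ρ h1 h2 h3]
  inv_mem' := fun {a} ha M _ _ ρ h1 h2 h3 m => by
    conv_lhs => rw [← ha M ρ h1 h2 h3 m]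
    rw [← rho_mul_apply, inv_mul_cancel, rho_one_apply]

instance factorKernel_normal : (factorKernel D E).Normal where
  conj_mem n hn g M _ _ ρ h1 h2 h3 m := by
    rw [rho_mul_apply, rho_mul_apply, hn M ρ h1 h2 h3, rho_inv_apply]

theorem odd_trivial {g : G} (hg : g ∈ factorKernel D E) (hodd : Odd (orderOf g)) :
    ∀ n, ∀ (M : Type u) [AddCommGroup M] [Finite M] (ρ : G →* AddMonoid.End M),
      Rel ρ D → Rel ρ E → Nat.card M = n → ∀ m : M, ρ g m = m := by
  intro n
  induction n using Nat.strong_induction_on with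
  | h n ih =>
    intro M _ _ ρ h1 h2 hn m
    by_cases hirr : ∀ W : AddSubgroup M, (∀ g : G, ∀ m ∈ W, ρ g m ∈ W) → W = ⊥ ∨ W = ⊤
    · exact hg M ρ h1 h2 hirr m
    push Not at hirr
    obtain ⟨W, hW, hbot, htop⟩ := hirr
    -- the restriction and the quotient
    let ρW : G →* AddMonoid.End W :=
      { toFun := fun g => AddMonoidHom.mk' (fun w : W => (⟨ρ g w, hW g w w.2⟩ : W))
          fun a b => Subtype.ext (map_add (ρ g) (a : M) b)
        map_one' := by ext w; exact rho_one_apply ρ (w : M)
        map_mul' := fun a b => by ext w; exact rho_mul_apply ρ a b (w : M) }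
    let ρQ : G →* AddMonoid.End (M ⧸ W) :=
      { toFun := fun g => QuotientAddGroup.map W W (ρ g) fun w hw => hW g w hw
        map_one' := AddMonoidHom.ext fun q => QuotientAddGroup.induction_on q fun x =>
          congrArg (QuotientAddGroup.mk' W) (rho_one_apply ρ x)
        map_mul' := fun a b => AddMonoidHom.ext fun q => QuotientAddGroup.induction_on q fun x =>
          congrArg (QuotientAddGroup.mk' W) (rho_mul_apply ρ a b x) }
    have hWrel : ∀ S : Set G, Rel ρ S → Rel ρW S := fun S hS =>
      ⟨fun w => Subtype.ext (hS.two w),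
       fun x hx y hy h w => Subtype.ext (hS.comm x hx y hy h w),
       fun x hx y hy h w => Subtype.ext (hS.ncomm x hx y hy h w)⟩
    have hQrel : ∀ S : Set G, Rel ρ S → Rel ρQ S := fun S hS =>
      ⟨fun q => QuotientAddGroup.induction_on q fun w => congrArg _ (hS.two w),
       fun x hx y hy h q => QuotientAddGroup.induction_on q fun w =>
         congrArg (QuotientAddGroup.mk' W) (hS.comm x hx y hy h w),
       fun x hx y hy h q => QuotientAddGroup.induction_on q fun w =>
         congrArg (QuotientAddGroup.mk' W) (hS.ncomm x hx y hy h w)⟩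
    have hcard := W.card_eq_card_quotient_mul_card_addSubgroup
    have hpos : 0 < Nat.card (M ⧸ W) := Nat.card_pos
    have hWpos : 0 < Nat.card W := Nat.card_pos
    have hW1 : Nat.card W ≠ 1 := fun h => hbot (AddSubgroup.eq_bot_of_card_eq W h)
    have hQ1 : Nat.card (M ⧸ W) ≠ 1 := fun h => htop (by
      rw [← AddSubgroup.index_eq_one]; exact h)
    have i1 := ih (Nat.card W)
      (by rw [← hn, hcard]; exact lt_mul_of_one_lt_left hWpos (by omega)) W ρW (hWrel _ h1) (hWrel _ h2) rfl
    have i2 := ih (Nat.card (M ⧸ W))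
      (by rw [← hn, hcard]; exact lt_mul_of_one_lt_right hpos (by omega)) (M ⧸ W) ρQ (hQrel _ h1)
      (hQrel _ h2) rfl
    have hw : ρ g m + m ∈ W := by
      rw [← QuotientAddGroup.eq_zero_iff]
      show ρQ g (m : M ⧸ W) + (m : M ⧸ W) = 0
      rw [i2]
      exact (hQrel _ h1).two _
    have hpow : ∀ k, ρ (g ^ k) m = m + k • (ρ g m + m) := by
      intro k
      induction k with
      | zero => rw [pow_zero, rho_one_apply, zero_nsmul, add_zero]
      | succ k ihk =>
        rw [pow_succ', rho_mul_apply, ihk, map_add, map_nsmul,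
          show ρ g (ρ g m + m) = ρ g m + m from congrArg Subtype.val (i1 ⟨_, hw⟩),
          succ_nsmul, show m + (k • (ρ g m + m) + (ρ g m + m)) =
            ρ g m + k • (ρ g m + m) + (m + m) by abel, h1.two, add_zero]
    have := hpow (orderOf g)
    obtain ⟨k, hk⟩ := hodd
    rw [pow_orderOf_eq_one, rho_one_apply, hk, add_nsmul, mul_nsmul', two_nsmul, h1.two,
      one_nsmul, zero_add, add_comm (ρ g m), ← add_assoc, h1.two, zero_add] at this
    exact this.symm

variable {V : Subgroup G} [V.Normal] [IsMulCommutative V] [Finite G]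

theorem factorKernel_isPGroup (hD : Rel (rep V) D) (hE : Rel (rep V) E)
    (hC : Subgroup.centralizer (V : Set G) ≤ V) (hexp : ∀ v ∈ V, v * v = 1) :
    IsPGroup 2 (factorKernel D E) := by
  intro ⟨g, hg⟩
  obtain ⟨k, m, hm, hkm⟩ := Nat.exists_eq_pow_mul_and_not_dvd (orderOf_pos g).ne' 2 (by norm_num)
  refine ⟨k, Subtype.ext ?_⟩
  show g ^ 2 ^ k = 1
  have ho : orderOf (g ^ 2 ^ k) = m := by
    rw [orderOf_pow_of_dvd (by positivity) ⟨m, hkm⟩, hkm, Nat.mul_div_cancel_left _ (by positivity)]
  have hodd : Odd (orderOf (g ^ 2 ^ k)) := by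
    rw [ho, Nat.odd_iff]; omega
  have hfix := odd_trivial (pow_mem hg (2 ^ k)) hodd _ (Additive V) (rep V) hD hE rfl
  have hmem : g ^ 2 ^ k ∈ V := by
    refine hC fun v hv => ?_
    obtain ⟨w, rfl⟩ := exists_incl hv
    have := congrArg (incl V) (hfix w)
    rw [incl_rep, mul_inv_eq_iff_eq_mul] at this
    exact this.symm
  have h2 : orderOf (g ^ 2 ^ k) ∣ 2 := orderOf_dvd_of_pow_eq_one (by rw [sq]; exact hexp _ hmem)
  have : orderOf (g ^ 2 ^ k) = 1 := by
    rcases (Nat.dvd_prime Nat.prime_two).1 h2 with h | h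
    · exact h
    · rw [h] at hodd; exact absurd hodd (by decide)
  exact orderOf_eq_one_iff.1 this

theorem class_eq_of_mem (hD : IsThreeTranspositionClass D) (hE : IsThreeTranspositionClass E)
    {s : G} (hs : s ∈ D) (hs' : s ∈ E) : E = D := by
  obtain ⟨d, -, hd⟩ := hD.2.1
  obtain ⟨e, -, he⟩ := hE.2.1
  rw [hd, he]
  rw [hd] at hs
  rw [he] at hs'
  exact (show IsConj e s from hs').conjugatesOf_eq.trans
    (show IsConj d s from hs).conjugatesOf_eq.symm

theorem not_mem_of_center (hD : IsThreeTranspositionClass D) (hZ : Subgroup.center G = ⊥)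
    {d : G} (hd : d ∈ D) : d ∉ V := by
  intro hdV
  have hVtop : V = ⊤ := by
    rw [eq_top_iff, ← hD.2.2, Subgroup.closure_le]
    intro e he
    obtain ⟨g, rfl⟩ := ThreeTrans.class_isConj hD hd he
    exact ‹V.Normal›.conj_mem d hdV g
  have : d ∈ Subgroup.center G := Subgroup.mem_center_iff.2 fun g => by
    obtain ⟨w, hw⟩ := exists_incl (V := V) (hVtop ▸ Subgroup.mem_top g)
    rw [← hw]
    exact (incl_comm w hdV).eq
  rw [hZ, Subgroup.mem_bot] at this
  exact ThreeTrans.ne_one hD.1 hd this

/-- Some member of `D` and some member of `E` generate more than a dihedral group of order 8. -/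
theorem exists_cube_pair (hD : IsThreeTranspositionClass D) (hE : IsThreeTranspositionClass E)
    (hexp : ∀ v ∈ V, v * v = 1) (hC : Subgroup.centralizer (V : Set G) ≤ V)
    (hZ : Subgroup.center G = ⊥) : ∃ d ∈ D, ∃ e ∈ E, ¬ Commute d (e * d * e) := by
  by_contra hcon
  push Not at hcon
  have rD := rel_of_class (V := V) hexp hD
  have rE := rel_of_class (V := V) hexp hE
  have key : ∀ c ∈ D, ∀ b ∈ E, ∀ m : Additive V,
      op (rep V) c (op (rep V) b (op (rep V) c m)) = 0 := by
    intro c hc b hb m
    have hb2 := ThreeTrans.mul_self hE.1 hb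
    have hA := ThreeTrans.class_conj hD b c hc
    rw [ThreeTrans.inv_eq hE.1 hb] at hA
    have h := rD.comm c hc _ hA (hcon c hc b hb) (op (rep V) b m + m)
    have e1 : op (rep V) b (op (rep V) b m + m) + (op (rep V) b m + m) = m := by
      rw [map_add, rE.sq hb, zero_add, ← add_assoc, rE.two, zero_add]
    rw [rD.op_inv_conj hb2, e1, map_add, rD.sq hc, add_zero] at h
    exact h
  have hall : ∀ e ∈ E, ∀ e' ∈ E, Commute e e' → ∀ c ∈ D, Commute e (c * e' * c) := by
    intro e he e' he' hee c hc
    by_contra hne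
    have hA := ThreeTrans.class_conj hE c e' he'
    rw [ThreeTrans.inv_eq hD.1 hc] at hA
    apply not_mem_of_center (V := V) hE hZ he
    refine hC fun v hv => ?_
    obtain ⟨w, rfl⟩ := exists_incl hv
    have h := rE.ncomm e he _ hA hne w
    rw [rD.op_inv_conj (ThreeTrans.mul_self hD.1 hc)] at h
    simp only [map_add, rE.comm e he e' he' hee, key c hc e' he', add_zero] at h
    rw [rE.comm e' he' e he hee.symm] at h
    simp only [map_zero, add_zero] at h
    have h' := h.symm
    have : rep V e w = w := rE.eq_of_add h'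
    have := congrArg (incl V) this
    rw [incl_rep, mul_inv_eq_iff_eq_mul] at this
    exact this.symm
  obtain ⟨e, he, -⟩ := hE.2.1
  apply ThreeTrans.ne_one hE.1 he
  rw [← Subgroup.mem_bot, ← hZ]
  refine Subgroup.mem_center_iff.2 fun g => (ThreeTrans.commute_all hE.2.2 (fun e' he' => ?_) g).eq.symm
  obtain ⟨k, rfl⟩ := ThreeTrans.class_isConj hE he he'
  have hk : k ∈ Subgroup.closure D := hD.2.2 ▸ Subgroup.mem_top k
  clear he'
  induction hk using Subgroup.closure_induction_left with
  | one => simp
  | mul_left a ha b _ ih =>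
    rw [show a * b * e * (a * b)⁻¹ = a * (b * e * b⁻¹) * a⁻¹ by group, ThreeTrans.inv_eq hD.1 ha]
    exact hall e he _ (ThreeTrans.class_conj hE b e he) ih a ha
  | inv_mul_cancel a ha b _ ih =>
    rw [ThreeTrans.inv_eq hD.1 ha,
      show a * b * e * (a * b)⁻¹ = a * (b * e * b⁻¹) * a⁻¹ by group, ThreeTrans.inv_eq hD.1 ha]
    exact hall e he _ (ThreeTrans.class_conj hE b e he) ih a ha

/-- Some member of `E` is a member of `D` times an element of `V`. -/
theorem exists_lift (hD : IsThreeTranspositionClass D) (hE : IsThreeTranspositionClass E)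
    (hexp : ∀ v ∈ V, v * v = 1) (hC : Subgroup.centralizer (V : Set G) ≤ V)
    (hZ : Subgroup.center G = ⊥) (hV : pCore 2 G ≤ V) :
    ∃ d ∈ D, ∃ v : Additive V, IsLift V E d v := by
  obtain ⟨d, hd, e, he, hde⟩ := exists_cube_pair hD hE hexp hC hZ
  have rD := rel_of_class (V := V) hexp hD
  have rE := rel_of_class (V := V) hexp hE
  have hd2 := ThreeTrans.mul_self hD.1 hd
  have he2 := ThreeTrans.mul_self hE.1 he
  have hx : e * d * e ∈ D := by
    have h := ThreeTrans.class_conj hD e d hd
    rwa [ThreeTrans.inv_eq hE.1 he] at h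
  have hd' : d * e * d ∈ E := by
    have h := ThreeTrans.class_conj hE d e he
    rwa [ThreeTrans.inv_eq hD.1 hd] at h
  have h3 := ThreeTrans.cube_of_not_commute hD.1 hd hx hde
  set t := (d * e) ^ 3 with htdef
  have ht : t * t = 1 := by
    rw [htdef, ← h3]
    simp only [pow_succ, pow_zero, one_mul, mul_assoc]
  have htinv : t⁻¹ = t := inv_eq_of_mul_eq_one_left ht
  have hrev : (e * d) ^ 3 = t := by
    rw [← htinv, htdef, ← inv_pow, mul_inv_rev, inv_eq_of_mul_eq_one_left hd2,
      inv_eq_of_mul_eq_one_left he2]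
  have hed : ∀ g : G, e * (e * g) = g := fun g => by rw [← mul_assoc, he2, one_mul]
  have hdd : ∀ g : G, d * (d * g) = g := fun g => by rw [← mul_assoc, hd2, one_mul]
  have htd : Commute t d := by
    show t * d = d * t
    nth_rw 2 [← hrev]
    simp only [htdef, pow_succ, pow_zero, one_mul, mul_assoc]
  have hte : Commute t e := by
    show t * e = e * t
    nth_rw 1 [← hrev]
    simp only [htdef, pow_succ, pow_zero, one_mul, mul_assoc]
  have he'' : d * t ∈ E := by
    have h := ThreeTrans.class_conj hE (e * d) e he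
    rw [mul_inv_rev, inv_eq_of_mul_eq_one_left hd2, inv_eq_of_mul_eq_one_left he2] at h
    convert h using 1
    simp only [htdef, pow_succ, pow_zero, one_mul, mul_assoc, hdd]
  have hne' : ¬ Commute e (d * e * d) := by
    intro hc
    apply hde
    have h2 : (e * (d * e * d)) = (d * e * d) * e := hc.eq
    have h4 : t = d * e * d * e * d * e := by simp only [htdef, pow_succ, pow_zero, one_mul, mul_assoc]
    -- `(de)^4 = 1` and `(de)^6 = 1`
    have h5 : (d * e) ^ 4 = 1 := by
      rw [show (d * e) ^ 4 = d * (e * (d * e * d)) * (e * d * e) by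
        simp only [pow_succ, pow_zero, one_mul, mul_assoc], h2]
      simp only [mul_assoc, hed, hdd, he2]
    have h6 : (d * e) ^ 6 = 1 := by rw [show 6 = 3 + 3 from rfl, pow_add, ← htdef, ht]
    have h7 : (d * e) ^ 2 = 1 := by
      rw [show 6 = 4 + 2 from rfl, pow_add, h5, one_mul] at h6; exact h6
    refine (ThreeTrans.sq_eq_one_iff hD.1 hd hx).1 ?_
    rw [show d * (e * d * e) = (d * e) ^ 2 by simp only [pow_two, mul_assoc], h7, one_pow]
  have htmem : t ∈ factorKernel D E := by
    intro M _ _ ρ r1 r2 hirr m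
    have hfix : ∀ p : M, op ρ d p = 0 → op ρ (e * d * e) p = 0 → op ρ t p = 0 := by
      intro p hp hq
      have hb : op ρ e p = 0 := by
        have h := r2.ncomm e he _ hd' hne' p
        rw [r1.op_inv_conj hd2] at h
        rw [r1.op_inv_conj he2] at hq
        -- `q = e p + p` is killed by `op d`
        have hq' : op ρ d (op ρ e p + p) = 0 := by
          set X := op ρ d (op ρ e p + p)
          have h1 := congrArg (op ρ e) hq
          rw [map_add, r2.sq he, zero_add, map_zero] at h1
          rwa [h1, zero_add] at hq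
        rw [map_add, hp, add_zero] at hq'
        simp only [hq', r2.sq he, map_zero, add_zero, zero_add] at h
        exact h.symm
      have h1 : ρ d p = p := r1.eq_of_add hp
      have h2 : ρ e p = p := r1.eq_of_add hb
      have : ρ t p = p := by
        simp only [htdef, pow_succ, pow_zero, one_mul, rho_mul_apply, h1, h2]
      rw [op_apply, this, r1.two]
    have S : Setting ρ D d (e * d * e) t := by
      refine ⟨r1, fun y hy => ThreeTrans.mul_self hD.1 hy, ThreeTrans.class_conj hD, hd, hx, hde,
        ht, htd, (hte.mul_right htd).mul_right hte, hfix, fun y hy => ?_⟩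
      have hA := ThreeTrans.class_conj hD (d * t) y hy
      rw [ThreeTrans.inv_eq hE.1 he''] at hA
      have hsq := ThreeTrans.mul_self hE.1 he''
      by_cases hc : Commute y (d * t * y * (d * t))
      · left
        intro m
        have h := r1.comm y hy _ hA hc (op ρ (d * t) m + m)
        have e1 : op ρ (d * t) (op ρ (d * t) m + m) + (op ρ (d * t) m + m) = m := by
          rw [map_add, r2.sq he'', zero_add, ← add_assoc, r1.two, zero_add]
        rw [r1.op_inv_conj hsq, e1, map_add, r1.sq hy, add_zero] at h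
        exact h
      · right
        intro m
        have h := r1.ncomm y hy _ hA hc m
        rw [r1.op_inv_conj hsq] at h
        simp only [map_add, r1.sq hy, add_zero] at h
        exact h
    exact r1.eq_of_add (S.trivial hD.2.2 hirr m)
  have htV : t ∈ V := hV (Core.le_pCore (factorKernel_isPGroup rD rE hC hexp) htmem)
  obtain ⟨v, hv⟩ := exists_incl htV
  exact ⟨d, hd, v, by rw [IsLift, hv]; exact he''⟩

theorem rep_eq_of_conj (v : Additive V) (y : G) (m : Additive V) :
    rep V (incl V v * y * (incl V v)⁻¹) m = rep V y m := by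
  rw [rho_mul_apply, rho_mul_apply, rep_of_mem (incl_mem v),
    rep_of_mem (V.inv_mem (incl_mem v))]

/-- A class of 3-transpositions with a member in the coset `d V` of a member `d` of `D` is `D`. -/
theorem eq_of_lift (hD : IsThreeTranspositionClass D) (hE : IsThreeTranspositionClass E)
    (hexp : ∀ v ∈ V, v * v = 1) (hZ : Subgroup.center G = ⊥) (hV : pCore 2 G ≤ V)
    {d : G} (hd : d ∈ D) {v : Additive V} (hv : IsLift V E d v) : E = D := by
  have rD := rel_of_class (V := V) hexp hD
  have cE := ThreeTrans.class_conj hE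
  have two := two_of_exp hexp
  have inv : ∀ y ∈ D, y * y = 1 := fun y hy => ThreeTrans.mul_self hD.1 hy
  have hD2 : ∃ a ∈ D, ∃ b ∈ D, a ≠ b := by
    by_contra hcon
    push Not at hcon
    apply ThreeTrans.ne_one hD.1 hd
    rw [← Subgroup.mem_bot, ← hZ]
    exact Subgroup.mem_center_iff.2 fun g => (ThreeTrans.commute_all hD.2.2
      (fun e he => by rw [hcon d hd e he]) g).eq.symm
  have ex : ∀ y ∈ D, ∃ w, IsLift V E y w := by
    intro y hy
    obtain ⟨g, rfl⟩ := ThreeTrans.class_isConj hD hd hy
    refine ⟨rep V g v, ?_⟩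
    rw [IsLift, incl_rep]
    have h := cE g _ hv
    rwa [show g * (d * incl V v) * g⁻¹ = g * d * g⁻¹ * (g * incl V v * g⁻¹) by group] at h
  have self : ∀ y ∈ D, ∀ w, IsLift V E y w → op (rep V) y w = 0 := fun y hy w hw =>
    op_lift_self hE.1 (inv y hy) hw
  have star : ∀ y ∈ D, ∀ z ∈ D, ¬ Commute y z → ∀ w w', IsLift V E y w → IsLift V E z w' →
      w + op (rep V) y (op (rep V) z w) = w' + op (rep V) z (op (rep V) y w') := by
    intro y hy z hz hyz w w' hw hw'
    have ha := self y hy w hw
    have hb := self z hz w' hw'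
    have h := lift_pair hexp hE.1 (inv y hy) (inv z hz)
      (ThreeTrans.cube_of_not_commute hD.1 hy hz hyz) (fun h => hyz (by
        rw [mul_eq_one_iff_eq_inv.1 h, ThreeTrans.inv_eq hD.1 hz])) hw hw'
    simp only [rho_mul_apply, rD.rho_eq z, rD.rho_eq y, map_add, ha, hb, rD.sq hz,
      zero_add, add_zero] at h
    set a := op (rep V) y
    set b := op (rep V) z
    have hbab : b (a (b w)) = b w := rD.ncomm z hz y hy (fun h => hyz h.symm) w
    refine rD.eq_of_add ?_
    rw [← h, hbab]
    trans w + a (b w) + (w' + b (a w')) + (((w + w) + (a (b w) + a (b w))) +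
      ((w' + w') + (a w' + a w')) + ((b w + b w) + (b w + b w) + (b w + b w)))
    · simp only [two, add_zero]
    · abel
  have uniq : ∀ y ∈ D, ∀ z ∈ D, ¬ Commute y z → ∀ w₁ w₂, IsLift V E y w₁ → IsLift V E y w₂ →
      w₁ + w₂ = op (rep V) y (op (rep V) z (w₁ + w₂)) := by
    intro y hy z hz hyz w₁ w₂ h1 h2
    obtain ⟨w', hw'⟩ := ex z hz
    have e := (star y hy z hz hyz w₁ w' h1 hw').trans (star y hy z hz hyz w₂ w' h2 hw').symm
    refine rD.eq_of_add ?_
    rw [map_add, map_add]
    rw [show ∀ p q r s : Additive V, p + q + (r + s) = (p + r) + (q + s) from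
      fun p q r s => by abel, e, two]
  have kill : ∀ y ∈ D, ∀ z ∈ D, Commute y z → ∀ w, IsLift V E y w → op (rep V) z w = 0 := by
    intro y hy z hz hyz w hw
    have hzw : IsLift V E y (rep V z w) := by
      have h := cE z _ hw
      rw [ThreeTrans.inv_eq hD.1 hz] at h
      rw [IsLift, incl_rep, ThreeTrans.inv_eq hD.1 hz]
      rwa [show z * (y * incl V w) * z = z * y * (incl V w * z) by group, ← hyz.eq,
        show y * z * (incl V w * z) = y * (z * incl V w * z) by group] at h
    by_cases h1 : ∀ q ∈ D, Commute y q ↔ Commute z q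
    · have hmem : z ∈ {v : G | v ∈ D ∧ ∀ e ∈ D, Commute v e ↔ Commute y e} :=
        ⟨hz, fun q hq => (h1 q hq).symm⟩
      rw [(S5349.result hD hD2 hy).2] at hmem
      obtain ⟨g, hg, rfl⟩ := hmem
      obtain ⟨g', rfl⟩ := exists_incl (hV hg)
      rw [op_apply, rep_eq_of_conj, ← op_apply]
      exact self y hy w hw
    push Not at h1
    obtain ⟨q, hq, ⟨hyq, hzq⟩ | ⟨hyq, hzq⟩⟩ := h1
    · obtain ⟨p, hp, hyp⟩ := ThreeTrans.exists_not_commute hD hD2 hy
      have hu := uniq y hy p hp hyp _ _ hzw hw
      have h1 : op (rep V) q (op (rep V) z w) = 0 := by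
        rw [op_apply (rep V) z, hu]
        exact rD.comm q hq y hy hyq.symm _
      rw [← rD.ncomm z hz q hq hzq, h1, map_zero]
    · have hu := uniq y hy q hq hyq _ _ hzw hw
      rw [← op_apply] at hu
      rw [hu, rD.comm q hq z hz hzq.symm, map_zero]
  obtain ⟨x, hx, hdx⟩ := ThreeTrans.exists_not_commute hD hD2 hd
  set s := v + op (rep V) d (op (rep V) x v) with hs
  have liftadd : ∀ y ∈ D, ∀ w u, IsLift V E y w → IsLift V E y (w + op (rep V) y u) := by
    intro y hy w u hw
    rw [add_comm]
    exact hw.conj hexp cE (inv y hy) u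
  have hsd : IsLift V E d s := liftadd d hd v _ hv
  have hsx : IsLift V E x s := by
    obtain ⟨w', hw'⟩ := ex x hx
    rw [hs, star d hd x hx hdx v w' hv hw']
    exact liftadd x hx w' _ hw'
  have hda : op (rep V) d s = 0 := self d hd s hsd
  have hxa : op (rep V) x s = 0 := self x hx s hsx
  have hall : ∀ y ∈ D, op (rep V) y s = 0 := by
    intro y hy
    by_cases hdy : Commute d y
    · exact kill d hd y hy hdy s hsd
    by_cases hxy : Commute x y
    · exact kill x hx y hy hxy s hsx
    have hA : d * x * d ∈ D := by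
      have h := ThreeTrans.class_conj hD d x hx
      rwa [ThreeTrans.inv_eq hD.1 hd] at h
    have hfix : rep V d s = s := rD.eq_of_add hda
    by_cases hyA : Commute y (d * x * d)
    · refine kill _ hA y hy hyA.symm s ?_
      have h := cE d _ hsx
      rw [ThreeTrans.inv_eq hD.1 hd] at h
      have he : d * incl V s * d = incl V s := by
        conv_rhs => rw [← hfix, incl_rep, ThreeTrans.inv_eq hD.1 hd]
      rw [IsLift]
      rwa [show d * (x * incl V s) * d = d * x * d * (d⁻¹ * incl V s * d) by group,
        ThreeTrans.inv_eq hD.1 hd, he] at h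
    set a := op (rep V) d with ha
    set b := op (rep V) x with hb
    set c := op (rep V) y with hc
    set r := c s with hr
    obtain ⟨wy, hwy⟩ := ex y hy
    have l1 : IsLift V E y (s + a r) := by
      rw [hr, star d hd y hy hdy s wy hsd hwy]; exact liftadd y hy wy _ hwy
    have l2 : IsLift V E y (s + b r) := by
      rw [hr, star x hx y hy hxy s wy hsx hwy]; exact liftadd y hy wy _ hwy
    have hu := uniq y hy d hd (fun h => hdy h.symm) _ _ l1 l2
    rw [show s + a r + (s + b r) = (s + s) + (a r + b r) by abel, two, zero_add] at hu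
    set m := a r + b r with hm
    set q := a m with hq
    have hcm : c m = 0 := by rw [hu]; exact rD.sq hy _
    have hA' : ∀ p, c (a (b p)) + c (b (a p)) + (c (a p) + c (b p)) = c (op (rep V) (d * x * d) p) := by
      intro p
      rw [rD.op_inv_conj (inv d hd)]
      simp only [map_add, ← ha, ← hb]
      rw [show a (b (a p)) = a p from rD.ncomm d hd x hx hdx p]
      abel
    have hk := rD.ncomm y hy _ hA hyA q
    rw [← hA', ← hu] at hk
    have hab : a m = a (b r) := by rw [hm, map_add, rD.sq hd, zero_add]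
    have hba : b m = b (a r) := by rw [hm, map_add, rD.sq hx, add_zero]
    have e1 : a (b m) = a r := by rw [hba]; exact rD.ncomm d hd x hx hdx r
    have e2 : b (a m) = b r := by
      rw [hab]; exact rD.ncomm x hx d hd (fun h => hdx h.symm) r
    have e3 : ∀ z ∈ D, ¬ Commute y z → c (op (rep V) z m) = m := fun z hz hyz =>
      calc c (op (rep V) z m) = c (op (rep V) z (c q)) := congrArg (fun w => c (op (rep V) z w)) hu
        _ = c q := rD.ncomm y hy z hz hyz q
        _ = m := hu.symm
    rw [e1, e2, ← map_add, show c (a m) = m from e3 d hd fun h => hdy h.symm,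
      show c (b m) = m from e3 x hx fun h => hxy h.symm, two, add_zero, ← hm, hcm] at hk
    have hr2 : a r = b r := rD.eq_of_add hk.symm
    have hr3 : a r = 0 := by
      rw [← rD.ncomm d hd x hx hdx r]
      show a (b (a r)) = 0
      rw [hr2, rD.sq hx, map_zero]
    show op (rep V) y s = 0
    rw [← rD.ncomm y hy d hd (fun h => hdy h.symm) s]
    show c (a r) = 0
    rw [hr3, map_zero]
  have hzero : s = 0 := by
    rw [← incl_eq_one, ← Subgroup.mem_bot, ← hZ]
    refine Subgroup.mem_center_iff.2 fun g =>
      (ThreeTrans.commute_all hD.2.2 (fun y hy => ?_) g).eq.symm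
    have h := congrArg (incl V) (rD.eq_of_add (hall y hy))
    rw [incl_rep, mul_inv_eq_iff_eq_mul] at h
    exact h.symm
  refine class_eq_of_mem hD hE (s := d * incl V v) ?_ hv
  have hv' : v = op (rep V) d (op (rep V) x v) := rD.eq_of_add hzero
  have h := IsLift.conj hexp (ThreeTrans.class_conj hD) (inv d hd)
    (show IsLift V D d (0 : Additive V) by rw [IsLift, incl_zero, mul_one]; exact hd)
    (op (rep V) x v)
  rw [add_zero, ← hv'] at h
  exact h

end Cfsg.Agent.TransUnique
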