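import Cfsg.Agent.TransUnique.Module

/-!
# An involution commuting with two non-commuting members

`d, x` are non-commuting members of a set `D` of 3-transpositions, `t` is an involution
commuting with both and fixing the vectors killed by `op d` and `op x`, and for each member `y`
the element `d * t` satisfies the dichotomy of a 3-transposition.  Then `t` is trivial on every
irreducible module.
-/

set_option autoImplicit false
set_option linter.unusedSectionVars false

namespace Cfsg.Agent.TransUnique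

variable {G : Type*} [Group G] {M : Type*} [AddCommGroup M]

/-- The data `(D, d, x, t)` described above. -/
structure Setting (ρ : G →* AddMonoid.End M) (D : Set G) (d x t : G) : Prop where
  rel : Rel ρ D
  inv : ∀ y ∈ D, y * y = 1
  conj : ∀ g : G, ∀ y ∈ D, g * y * g⁻¹ ∈ D
  hd : d ∈ D
  hx : x ∈ D
  hdx : ¬ Commute d x
  ht : t * t = 1
  htd : Commute t d
  htx : Commute t x
  fix : ∀ p : M, op ρ d p = 0 → op ρ x p = 0 → op ρ t p = 0
  dich : ∀ y ∈ D, (∀ m : M, op ρ y (op ρ (d * t) (op ρ y m)) = 0) ∨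
    (∀ m : M, op ρ y (op ρ (d * t) (op ρ y (op ρ (d * t) (op ρ y m)))) = op ρ y m)

/-- The image of `op d`. -/
def InU (ρ : G →* AddMonoid.End M) (d : G) (u : M) : Prop := ∃ m, op ρ d m = u

/-- The map induced on the image of `op d` by a triangle `(d, y, z)`. -/
def nu (ρ : G →* AddMonoid.End M) (d y z : G) (u : M) : M := op ρ d (op ρ y (op ρ z u))

variable {ρ : G →* AddMonoid.End M} {D : Set G} {d x t : G} (S : Setting ρ D d x t)
include S

theorem Setting.conjInv {g y : G} (hg : g * g = 1) (hy : y ∈ D) : g * y * g ∈ D := by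
  have h := S.conj g y hy
  rwa [inv_eq_of_mul_eq_one_left hg] at h

theorem Setting.u_kill {u : M} (hu : InU ρ d u) : op ρ d u = 0 := by
  obtain ⟨m, rfl⟩ := hu
  exact S.rel.sq S.hd m

theorem Setting.u_fix {u : M} (hu : InU ρ d u) {y : G} (hy : y ∈ D) (hdy : ¬ Commute d y) :
    op ρ d (op ρ y u) = u := by
  obtain ⟨m, rfl⟩ := hu
  exact S.rel.ncomm d S.hd y hy hdy m

theorem Setting.u_nu (y z : G) (u : M) : InU ρ d (nu ρ d y z u) := ⟨_, rfl⟩

theorem Setting.tau_comm {g : G} (hg : Commute t g) (m : M) :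
    op ρ t (op ρ g m) = op ρ g (op ρ t m) := by
  simp only [op_apply, map_add]
  rw [← rho_mul_apply, hg.eq, rho_mul_apply]
  abel

theorem Setting.tau_sq (m : M) : op ρ t (op ρ t m) = 0 := by
  rw [op_apply, op_apply, map_add, ← rho_mul_apply, S.ht, rho_one_apply,
    add_comm m (ρ t m), S.rel.two]

theorem Setting.u_tau {u : M} (hu : InU ρ d u) : InU ρ d (op ρ t u) := by
  obtain ⟨m, rfl⟩ := hu
  exact ⟨op ρ t m, (S.tau_comm S.htd m).symm⟩

theorem Setting.tau_split (m : M) :
    op ρ t m = op ρ t (op ρ d (op ρ x m)) + op ρ x (op ρ t (op ρ d m)) := by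
  set p := m + op ρ d (op ρ x m) + op ρ x (op ρ d m) with hp
  have h1 : op ρ d p = 0 := by
    rw [hp, map_add, map_add, S.rel.sq S.hd, S.rel.ncomm d S.hd x S.hx S.hdx, add_zero,
      S.rel.two]
  have h2 : op ρ x p = 0 := by
    rw [hp, map_add, map_add, S.rel.sq S.hx,
      S.rel.ncomm x S.hx d S.hd (fun h => S.hdx h.symm), add_zero, S.rel.two]
  have h3 := S.fix p h1 h2
  rw [hp, map_add, map_add, add_assoc] at h3
  rw [S.rel.eq_of_add h3, S.tau_comm S.htx]

/-- The action of `op t` on a vector `op z u`. -/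
theorem Setting.tau_op {z : G} (hz : z ∈ D) (hdz : ¬ Commute d z) {v : M} (hv : InU ρ d v) :
    op ρ t (op ρ z v) = op ρ t (nu ρ d x z v) + op ρ x (op ρ t v) := by
  conv_lhs => rw [S.tau_split (op ρ z v), S.u_fix hv hz hdz]
  rfl

theorem Setting.nu_inv {y z : G} (hy : y ∈ D) (hdy : ¬ Commute d y) (hz : z ∈ D)
    (hdz : ¬ Commute d z) (hyz : ¬ Commute y z) {u : M} (hu : InU ρ d u) :
    nu ρ d y z (nu ρ d z y u) = u := by
  rw [nu, nu, S.rel.ncomm z hz d S.hd (fun h => hdz h.symm),
    S.rel.ncomm y hy z hz hyz, S.u_fix hu hy hdy]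

/-- The dichotomy for a triangle through `d`. -/
theorem Setting.triangle {y z : G} (hy : y ∈ D) (hdy : ¬ Commute d y) (hz : z ∈ D)
    (hdz : ¬ Commute d z) (hyz : ¬ Commute y z) :
    (∀ u : M, InU ρ d u → nu ρ d y z u = u ∧ nu ρ d z y u = u) ∨
      (∀ u : M, InU ρ d u → nu ρ d y z u + nu ρ d z y u = u) := by
  have hA : d * z * d ∈ D := S.conjInv (S.inv d S.hd) hz
  have hform : ∀ m : M, op ρ (d * z * d) m =
      op ρ d (op ρ z (op ρ d m + m)) + op ρ z (op ρ d m + m) :=
    fun m => S.rel.op_inv_conj (S.inv d S.hd) z m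
  by_cases hc : Commute y (d * z * d)
  · left
    have h1 : ∀ u : M, InU ρ d u → nu ρ d y z u = u := by
      intro u hu
      have h := S.rel.comm y hy _ hA hc u
      rw [hform, S.u_kill hu, zero_add, S.u_fix hu hz hdz, map_add] at h
      have h' := congrArg (op ρ d) h
      rw [map_add, map_zero, S.u_fix hu hy hdy] at h'
      exact (S.rel.eq_of_add h').symm
    intro u hu
    refine ⟨h1 u hu, ?_⟩
    have h := S.nu_inv hy hdy hz hdz hyz hu
    rwa [h1 _ (S.u_nu z y u)] at h
  · right
    intro u hu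
    have h := S.rel.ncomm y hy _ hA hc u
    rw [hform, S.u_fix hu hy hdy] at h
    have hc1 : op ρ y (op ρ z (op ρ y u)) = op ρ y u := S.rel.ncomm y hy z hz hyz u
    have hc2 : op ρ d (op ρ z u) = u := S.u_fix hu hz hdz
    simp only [map_add, hc1, hc2] at h
    have h' := congrArg (op ρ d) h
    simp only [map_add, S.u_fix hu hy hdy] at h'
    rw [S.u_fix (⟨_, rfl⟩ : InU ρ d (op ρ d (op ρ z (op ρ y u)))) hy hdy] at h'
    have key : ∀ a b : M, u + b + (a + u) = u → a + b = u := by
      intro a b hab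
      rwa [show u + b + (a + u) = (u + u) + (a + b) by abel, S.rel.two, zero_add] at hab
    exact key _ _ h'

theorem Setting.sq_of_sum {y z : G} (hy : y ∈ D) (hdy : ¬ Commute d y) (hz : z ∈ D)
    (hdz : ¬ Commute d z) (hyz : ¬ Commute y z)
    (hfp : ∀ v : M, InU ρ d v → nu ρ d y z v + nu ρ d z y v = v) {v : M} (hv : InU ρ d v) :
    nu ρ d y z (nu ρ d y z v) + nu ρ d y z v + v = 0 := by
  have h := congrArg (nu ρ d y z) (hfp v hv)
  have hadd : ∀ a b : M, nu ρ d y z (a + b) = nu ρ d y z a + nu ρ d y z b := fun a b => by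
    simp only [nu, map_add]
  rw [hadd, S.nu_inv hy hdy hz hdz hyz hv] at h
  rw [show nu ρ d y z (nu ρ d y z v) + nu ρ d y z v + v =
    (nu ρ d y z (nu ρ d y z v) + v) + nu ρ d y z v by abel, h, S.rel.two]

omit S in
theorem commute_conj_iff' (g a b : G) :
    Commute (g * a * g⁻¹) (g * b * g⁻¹) ↔ Commute a b := Commute.conj_iff g

/-- `op t` intertwines the two maps of a triangle through `(d, x)`. -/
theorem Setting.twist {y : G} (hy : y ∈ D) (hdy : ¬ Commute d y) (hxy : ¬ Commute x y) {u : M}
    (hu : InU ρ d u) : op ρ t (nu ρ d x y u) = nu ρ d y x (op ρ t u) := by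
  have two := S.rel.two
  set tu := fun v => op ρ t (nu ρ d x y v) + nu ρ d y x (op ρ t v) with htu
  set N := nu ρ d y x with hN
  set N' := nu ρ d x y with hN'
  have hyx : ¬ Commute y x := fun h => hxy h.symm
  have hXmem : ∀ v, InU ρ d v → InU ρ d (tu v) := by
    intro v _
    obtain ⟨m, hm⟩ := S.u_tau (S.u_nu x y v)
    exact ⟨m + op ρ y (op ρ x (op ρ t v)), by rw [map_add, hm]; rfl⟩
  have hX : ∀ v, InU ρ d v → op ρ d (op ρ y (op ρ t (op ρ y v))) = tu v := by
    intro v hv
    rw [S.tau_op hy hdy hv, map_add, map_add, S.u_fix (S.u_tau (S.u_nu x y v)) hy hdy]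
    rfl
  have hback : ∀ m : M, op ρ y (op ρ d (op ρ y m)) = op ρ y m :=
    S.rel.ncomm y hy d S.hd fun h => hdy h.symm
  -- the pair `y`, `t y t`
  have hA : t * y * t ∈ D := S.conjInv S.ht hy
  have hform : ∀ m : M, op ρ (t * y * t) m =
      op ρ t (op ρ y (op ρ t m + m)) + op ρ y (op ρ t m + m) :=
    fun m => S.rel.op_inv_conj S.ht y m
  have hside : (∀ v, InU ρ d v → tu v = 0) ∨ (∀ v, InU ρ d v → tu (tu v) = v) := by
    by_cases hc : Commute y (t * y * t)
    · left
      intro v hv
      have h := S.rel.comm y hy _ hA hc (op ρ t v + v)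
      have e1 : op ρ t (op ρ t v + v) + (op ρ t v + v) = v := by
        rw [map_add, S.tau_sq, zero_add, ← add_assoc, two, zero_add]
      rw [hform, e1, map_add, S.rel.sq hy, add_zero] at h
      rw [← hX v hv, h, map_zero]
    · right
      intro v hv
      have h := S.rel.ncomm y hy _ hA hc v
      rw [hform] at h
      simp only [map_add, S.rel.sq hy, add_zero] at h
      rw [← hback (op ρ t (op ρ y v))] at h
      have h' := congrArg (op ρ d) h
      rwa [hX v hv, hX _ (hXmem v hv), S.u_fix hv hy hdy] at h'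
  have hq : ∀ v, InU ρ d v →
      op ρ d (op ρ y (op ρ (d * t) (op ρ y v))) = v + tu v + op ρ t v := by
    intro v hv
    have e1 : ∀ m : M, op ρ (d * t) m = op ρ d m + op ρ t m + op ρ d (op ρ t m) := by
      intro m
      rw [op_apply, rho_mul_apply, S.rel.rho_eq d, S.rel.rho_eq t, map_add]
      rw [show op ρ d (op ρ t m) + op ρ d m + (op ρ t m + m) + m =
        op ρ d m + op ρ t m + op ρ d (op ρ t m) + (m + m) by abel, two, add_zero]
    rw [e1, map_add, map_add, map_add, map_add, S.u_fix hv hy hdy, S.u_fix hv hy hdy, hX v hv,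
      ← S.tau_comm S.htd, S.u_fix hv hy hdy, S.u_fix (S.u_tau hv) hy hdy]
  have hdich : (∀ v, InU ρ d v → v + tu v + op ρ t v = 0) ∨
      (∀ v, InU ρ d v →
        (v + tu v + op ρ t v) + tu (v + tu v + op ρ t v) + op ρ t (v + tu v + op ρ t v) = v) := by
    rcases S.dich y hy with h | h
    · left
      intro v hv
      rw [← hq v hv, h, map_zero]
    · right
      intro v hv
      have h1 := h v
      rw [← hback (op ρ (d * t) (op ρ y v))] at h1
      have h2 := congrArg (op ρ d) h1
      rw [hq v hv, S.u_fix hv hy hdy, hq _ ?_] at h2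
      · exact h2
      · obtain ⟨m₀, hm₀⟩ := hXmem v hv
        obtain ⟨m₁, hm₁⟩ := hv
        exact ⟨m₁ + m₀ + op ρ t m₁, by
          rw [map_add, map_add, hm₀, hm₁, ← S.tau_comm S.htd, hm₁]⟩
  apply S.rel.eq_of_add
  show tu u = 0
  rcases hside with h0 | h2
  · exact h0 u hu
  rcases S.triangle hy hdy S.hx S.hdx hyx with hid | hfp
  · show op ρ t (N' u) + N (op ρ t u) = 0
    rw [hN', hN, (hid u hu).2, (hid _ (S.u_tau hu)).1, two]
  · suffices hall : ∀ v, InU ρ d v → v = 0 by
      rw [hall u hu]
      exact hall _ (hXmem _ ⟨0, map_zero _⟩)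
    have hfp' : ∀ v, InU ρ d v → N' v = N v + v := by
      intro v hv
      have := hfp v hv
      rw [← hN, ← hN'] at this
      rw [← S.rel.two_left (N v) (N' v), this]
    have htmem : ∀ v, InU ρ d v → tu v = op ρ t (N v) + op ρ t v + N (op ρ t v) := by
      intro v hv
      show op ρ t (N' v) + N (op ρ t v) = _
      rw [hfp' v hv, map_add]
    have hct : ∀ v, InU ρ d v → op ρ t (tu v) = tu (op ρ t v) := by
      intro v hv
      rw [htmem v hv, htmem _ (S.u_tau hv), map_add, map_add, S.tau_sq, S.tau_sq, zero_add]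
      simp [hN, nu]
    rcases hdich with hq0 | hq2
    · intro v hv
      have hone : ∀ w, InU ρ d w → op ρ t (N w) + N (op ρ t w) = w := by
        intro w hw
        have := hq0 w hw
        rw [htmem w hw] at this
        rw [show w + (op ρ t (N w) + op ρ t w + N (op ρ t w)) + op ρ t w =
          (w + (op ρ t (N w) + N (op ρ t w))) + (op ρ t w + op ρ t w) by abel, two, add_zero]
          at this
        exact (S.rel.eq_of_add this).symm
      have h1 := congrArg N (hone v hv)
      have h3 := hone (N v) (S.u_nu y x v)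
      have hNadd : ∀ a b : M, N (a + b) = N a + N b := fun a b => by
        simp only [hN, nu, map_add]
      have hNN : ∀ w, InU ρ d w → N (N w) = N w + w := by
        intro w hw
        have e1 := S.nu_inv hy hdy S.hx S.hdx hyx hw
        rw [← hN, ← hN', hfp' w hw, hNadd] at e1
        rw [← S.rel.two_left (N w) (N (N w))]
        rw [add_comm (N w) (N (N w)), e1]
      rw [hNadd, hNN _ (S.u_tau hv)] at h1
      rw [hNN v hv, map_add] at h3
      have h4 : op ρ t (N v) + N (op ρ t v) =
          (N (op ρ t (N v)) + (N (op ρ t v) + op ρ t v)) +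
            (op ρ t (N v) + op ρ t v + N (op ρ t (N v))) := by
        rw [show (N (op ρ t (N v)) + (N (op ρ t v) + op ρ t v)) +
            (op ρ t (N v) + op ρ t v + N (op ρ t (N v))) = (op ρ t (N v) + N (op ρ t v)) +
            ((N (op ρ t (N v)) + N (op ρ t (N v))) + (op ρ t v + op ρ t v)) by abel,
          two, two, add_zero, add_zero]
      rw [h1, h3, two] at h4
      rw [← hone v hv, h4]
    · intro v hv
      have h := hq2 v hv
      have hadd : ∀ a b : M, tu (a + b) = tu a + tu b := fun a b => by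
        simp only [htu, hN, hN', nu, map_add]; abel
      rw [hadd, hadd, h2 v hv, map_add, map_add, S.tau_sq, add_zero, hct v hv] at h
      rw [← h]
      rw [show v + tu v + op ρ t v + (tu v + v + tu (op ρ t v)) + (op ρ t v + tu (op ρ t v)) =
        (v + v) + (tu v + tu v) + (op ρ t v + op ρ t v) + (tu (op ρ t v) + tu (op ρ t v)) by abel,
        ]
      simp only [two]

/-- The two maps of a general triangle preserve the kernel of `op t`. -/
theorem Setting.kerTriangle {y z : G} (hy : y ∈ D) (hdy : ¬ Commute d y) (hxy : ¬ Commute x y)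
    (hz : z ∈ D) (hdz : ¬ Commute d z) (hxz : ¬ Commute x z) {u : M} (hu : InU ρ d u)
    (h0 : op ρ t u = 0) : op ρ t (nu ρ d y z u) = 0 := by
  have two := S.rel.two
  by_cases hyz : Commute y z
  · rw [nu, S.rel.comm y hy z hz hyz, map_zero, map_zero]
  rcases S.triangle hy hdy hz hdz hyz with hid | hfp
  · rw [(hid u hu).1, h0]
  -- the action of `op t` seen from the triangle
  have half : ∀ y z : G, y ∈ D → ¬ Commute d y → z ∈ D → ¬ Commute d z → ¬ Commute x z →
      ¬ Commute y z →
      (∀ v, InU ρ d v → nu ρ d y z (nu ρ d y z v) + nu ρ d y z v + v = 0) →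
      nu ρ d y z (op ρ t (nu ρ d y z u)) +
        (nu ρ d y x (op ρ t (nu ρ d y z u)) + nu ρ d z x (op ρ t (nu ρ d y z u))) = 0 ∨
      op ρ t (nu ρ d y z u) = 0 := by
    intro y z hy hdy hz hdz hxz hyz hfp
    set w := nu ρ d y z u with hw
    have hwU : InU ρ d w := S.u_nu y z u
    have hA : t * z * t ∈ D := S.conjInv S.ht hz
    have hdA : ¬ Commute d (t * z * t) := by
      intro h
      apply hdz
      have h' := (commute_conj_iff' t d z).1 ?_
      · exact h'
      · have e : t * d * t⁻¹ = d := by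
          rw [S.htd.eq, mul_inv_cancel_right]
        rw [e, inv_eq_of_mul_eq_one_left S.ht]
        exact h
    have hform : ∀ v : M, InU ρ d v → nu ρ d y (t * z * t) v =
        nu ρ d y z v + nu ρ d y z (op ρ t v) +
          (nu ρ d z x (op ρ t v) + nu ρ d y x (op ρ t v)) := by
      intro v hv
      have e : ∀ v' : M, InU ρ d v' →
          op ρ d (op ρ y (op ρ t (op ρ z v'))) =
            nu ρ d z x (op ρ t v') + nu ρ d y x (op ρ t v') := by
        intro v' hv'
        rw [S.tau_op hz hdz hv', map_add, map_add, S.u_fix (S.u_tau (S.u_nu x z v')) hy hdy,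
          S.twist hz hdz hxz hv']
        rfl
      simp only [nu]
      rw [S.rel.op_inv_conj S.ht z v]
      simp only [map_add]
      rw [e v hv, e _ (S.u_tau hv), S.tau_sq]
      simp only [nu, map_zero, add_zero, zero_add]
      abel
    have hu1 : nu ρ d y (t * z * t) u = w := by
      rw [hform u hu, h0]
      simp only [nu, map_zero, add_zero]
      rfl
    by_cases hc : Commute y (t * z * t)
    · right
      rw [← hu1, nu, S.rel.comm y hy _ hA hc, map_zero, map_zero]
    rcases S.triangle hy hdy hA hdA hc with h' | h'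
    · right
      rw [← hu1, (h' u hu).1, h0]
    · left
      have hsq := S.sq_of_sum hy hdy hA hdA hc h' hu
      rw [hu1, hform w hwU] at hsq
      have hG := hfp u hu
      rw [← hw] at hG
      have e : nu ρ d y z (op ρ t w) + (nu ρ d y x (op ρ t w) + nu ρ d z x (op ρ t w)) =
          (nu ρ d y z w + nu ρ d y z (op ρ t w) +
            (nu ρ d z x (op ρ t w) + nu ρ d y x (op ρ t w)) + w + u) +
          (nu ρ d y z w + w + u) := by
        rw [show (nu ρ d y z w + nu ρ d y z (op ρ t w) +
            (nu ρ d z x (op ρ t w) + nu ρ d y x (op ρ t w)) + w + u) +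
          (nu ρ d y z w + w + u) =
          (nu ρ d y z (op ρ t w) + (nu ρ d y x (op ρ t w) + nu ρ d z x (op ρ t w))) +
          ((nu ρ d y z w + nu ρ d y z w) + (w + w) + (u + u)) by abel]
        simp only [two, add_zero]
      rw [e, hsq, hG, add_zero]
  have hfp' : ∀ v, InU ρ d v → nu ρ d z y v + nu ρ d y z v = v := fun v hv => by
    rw [add_comm, hfp v hv]
  have hzy : ¬ Commute z y := fun h => hyz h.symm
  set s := op ρ t (nu ρ d y z u) with hs
  have hs' : op ρ t (nu ρ d z y u) = s := by
    have h := hfp u hu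
    rw [← S.rel.two_left (nu ρ d y z u) (nu ρ d z y u), h, map_add, h0, add_zero]
  rcases half y z hy hdy hz hdz hxz hyz (fun v hv => S.sq_of_sum hy hdy hz hdz hyz hfp hv) with
    h1 | h1
  swap
  · exact h1
  rcases half z y hz hdz hy hdy hxy hzy (fun v hv => S.sq_of_sum hz hdz hy hdy hzy hfp' hv) with
    h2 | h2
  swap
  · rwa [hs'] at h2
  rw [hs'] at h2
  have h3 := hfp s (S.u_tau (S.u_nu y z u))
  rw [S.rel.eq_of_add h1, S.rel.eq_of_add h2, add_comm (nu ρ d z x s), two] at h3
  exact h3.symm

/-- Some member of the pair `y`, `d y d` does not commute with `x`. -/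
theorem Setting.variant {y : G} (hy : y ∈ D) (hdy : ¬ Commute d y) (hxy : Commute x y)
    (hxy' : Commute x (d * y * d)) {u : M} (hu : InU ρ d u) : u = 0 := by
  have hA : d * y * d ∈ D := S.conjInv (S.inv d S.hd) hy
  have h := S.rel.comm x S.hx _ hA hxy' u
  rw [S.rel.op_inv_conj (S.inv d S.hd) y u, S.u_kill hu, zero_add, S.u_fix hu hy hdy, map_add,
    S.rel.comm x S.hx y hy hxy u, add_zero] at h
  rw [← S.u_fix hu S.hx S.hdx, h, map_zero]

theorem Setting.not_comm_dconj {y : G} (hdy : ¬ Commute d y) : ¬ Commute d (d * y * d) := by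
  intro h
  apply hdy
  have e := S.inv d S.hd
  have h' : d * (d * y * d) = d * y * d * d := h.eq
  rw [← mul_assoc, ← mul_assoc, e, one_mul, mul_assoc (d * y), e, mul_one] at h'
  exact h'.symm

theorem Setting.kerPair {y z : G} (hy : y ∈ D) (hdy : ¬ Commute d y) (hz : z ∈ D)
    (hdz : ¬ Commute d z) {u : M} (hu : InU ρ d u) (h0 : op ρ t u = 0) :
    op ρ t (nu ρ d y z u) = 0 := by
  -- first replace `z`, then `y`
  have stepz : ∀ y : G, y ∈ D → ¬ Commute d y → ¬ Commute x y →
      op ρ t (nu ρ d y z u) = 0 := by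
    intro y hy hdy hxy
    by_cases hxz : Commute x z
    · have hA : d * z * d ∈ D := S.conjInv (S.inv d S.hd) hz
      by_cases hxA : Commute x (d * z * d)
      · rw [S.variant hz hdz hxz hxA hu]
        simp [nu]
      have h := S.kerTriangle hy hdy hxy hA (S.not_comm_dconj hdz) hxA hu h0
      rw [nu, S.rel.op_inv_conj (S.inv d S.hd) z u, S.u_kill hu, zero_add,
        S.u_fix hu hz hdz, map_add, map_add, S.u_fix hu hy hdy, map_add, h0, zero_add] at h
      exact h
    · exact S.kerTriangle hy hdy hxy hz hdz hxz hu h0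
  by_cases hxy : Commute x y
  · have hA : d * y * d ∈ D := S.conjInv (S.inv d S.hd) hy
    by_cases hxA : Commute x (d * y * d)
    · rw [S.variant hy hdy hxy hxA hu]
      simp [nu]
    have h := stepz _ hA (S.not_comm_dconj hdy) hxA
    rw [nu, S.rel.op_inv_conj (S.inv d S.hd) y, S.u_fix hu hz hdz, map_add, S.rel.sq S.hd,
      zero_add, map_add, map_add, S.u_fix hu hy hdy, map_add, h0, zero_add] at h
    exact h
  · exact stepz y hy hdy hxy

/-- The smallest invariant subgroup attached to the kernel of `op t` on the image of `op d`. -/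
def span (ρ : G →* AddMonoid.End M) (D : Set G) (d t : G) : AddSubgroup M :=
  AddSubgroup.closure {m | ∃ u : M, InU ρ d u ∧ op ρ t u = 0 ∧
    (m = u ∨ ∃ y ∈ D, ¬ Commute d y ∧ m = op ρ y u)}

theorem Setting.span_invariant (hgen : Subgroup.closure D = ⊤) :
    ∀ g : G, ∀ m ∈ span ρ D d t, ρ g m ∈ span ρ D d t := by
  have hop : ∀ z ∈ D, ∀ m ∈ span ρ D d t, op ρ z m ∈ span ρ D d t := by
    intro z hz m hm
    induction hm using AddSubgroup.closure_induction with
    | zero => rw [map_zero]; exact zero_mem _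
    | add a b _ _ ha hb => rw [map_add]; exact add_mem ha hb
    | neg a _ ha => rw [map_neg]; exact neg_mem ha
    | mem m hm =>
      obtain ⟨u, hu, h0, rfl | ⟨y, hy, hdy, rfl⟩⟩ := hm
      · by_cases hdz : Commute d z
        · obtain ⟨v, rfl⟩ := hu
          rw [S.rel.comm z hz d S.hd hdz.symm]
          exact zero_mem _
        · exact AddSubgroup.subset_closure ⟨_, hu, h0, Or.inr ⟨z, hz, hdz, rfl⟩⟩
      · by_cases hzy : Commute z y
        · rw [S.rel.comm z hz y hy hzy]
          exact zero_mem _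
        by_cases hdz : Commute d z
        · obtain ⟨v, hv⟩ := id hu
          have hzu : op ρ z u = 0 := by rw [← hv]; exact S.rel.comm z hz d S.hd hdz.symm v
          have hzi := S.inv z hz
          have hA : z * y * z ∈ D := S.conjInv hzi hy
          have hdA : ¬ Commute d (z * y * z) := by
            intro h
            apply hdy
            refine (commute_conj_iff' z d y).1 ?_
            rw [inv_eq_of_mul_eq_one_left hzi, ← hdz.eq, mul_assoc, hzi, mul_one]
            exact h
          have e : op ρ z (op ρ y u) = op ρ y u + op ρ (z * y * z) u := by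
            rw [S.rel.op_inv_conj hzi, hzu, zero_add, add_comm (op ρ z (op ρ y u)),
              ← add_assoc, S.rel.two, zero_add]
          rw [e]
          exact add_mem (AddSubgroup.subset_closure ⟨_, hu, h0, Or.inr ⟨y, hy, hdy, rfl⟩⟩)
            (AddSubgroup.subset_closure ⟨_, hu, h0, Or.inr ⟨_, hA, hdA, rfl⟩⟩)
        · rw [← S.rel.ncomm z hz d S.hd (fun h => hdz h.symm)]
          exact AddSubgroup.subset_closure
            ⟨_, S.u_nu z y u, S.kerPair hz hdz hy hdy hu h0, Or.inr ⟨z, hz, hdz, rfl⟩⟩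
  intro g
  have hg : g ∈ Subgroup.closure D := hgen ▸ Subgroup.mem_top g
  have hD : ∀ z ∈ D, ∀ m ∈ span ρ D d t, ρ z m ∈ span ρ D d t := fun z hz m hm => by
    rw [S.rel.rho_eq]; exact add_mem (hop z hz m hm) hm
  induction hg using Subgroup.closure_induction_left with
  | one => intro m hm; rwa [rho_one_apply]
  | mul_left a ha b _ ih => intro m hm; rw [rho_mul_apply]; exact hD a ha _ (ih m hm)
  | inv_mul_cancel a ha b _ ih =>
    intro m hm
    rw [inv_eq_of_mul_eq_one_left (S.inv a ha), rho_mul_apply]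
    exact hD a ha _ (ih m hm)

/-- On an irreducible module `t` is trivial. -/
theorem Setting.trivial (hgen : Subgroup.closure D = ⊤)
    (hirr : ∀ W : AddSubgroup M, (∀ g : G, ∀ m ∈ W, ρ g m ∈ W) → W = ⊥ ∨ W = ⊤) (m : M) :
    op ρ t m = 0 := by
  suffices hU : ∀ u, InU ρ d u → op ρ t u = 0 by
    rw [S.tau_split, hU _ ⟨_, rfl⟩, hU _ ⟨_, rfl⟩, map_zero, add_zero]
  intro u hu
  rcases hirr _ (S.span_invariant hgen) with hbot | htop
  · have hmem : op ρ t u ∈ span ρ D d t :=
      AddSubgroup.subset_closure ⟨_, S.u_tau hu, S.tau_sq u, Or.inl rfl⟩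
    rwa [hbot, AddSubgroup.mem_bot] at hmem
  · obtain ⟨v, rfl⟩ := hu
    have hv : v ∈ span ρ D d t := htop ▸ AddSubgroup.mem_top v
    induction hv using AddSubgroup.closure_induction with
    | zero => rw [map_zero, map_zero]
    | add a b _ _ ha hb => rw [map_add, map_add, ha, hb, add_zero]
    | neg a _ ha => rw [map_neg, map_neg, ha, neg_zero]
    | mem w hw =>
      obtain ⟨u', hu', h0, rfl | ⟨y, hy, hdy, rfl⟩⟩ := hw
      · rw [S.u_kill hu', map_zero]
      · rw [S.u_fix hu' hy hdy, h0]

end Cfsg.Agent.TransUnique
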