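import Mathlib

/-!
# Modules of exponent two for a set of 3-transpositions

For a representation `ρ` of `G` on an abelian group of exponent two, `op ρ g` is `ρ g + 1`.
`Rel ρ D` says: two commuting members give operators with product zero, two non-commuting
members `x, y` give `op x ∘ op y ∘ op x = op x`.
-/

set_option autoImplicit false

namespace Cfsg.Agent.TransUnique

variable {G : Type*} [Group G] {M : Type*} [AddCommGroup M] (ρ : G →* AddMonoid.End M)

/-- The operator `ρ g + 1`. -/
def op (g : G) : M →+ M :=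
  AddMonoidHom.mk' (fun m => ρ g m + m) fun a b => by rw [map_add]; abel

theorem op_apply (g : G) (m : M) : op ρ g m = ρ g m + m := rfl

theorem rho_mul_apply (g h : G) (m : M) : ρ (g * h) m = ρ g (ρ h m) := by rw [map_mul]; rfl

theorem rho_one_apply (m : M) : ρ 1 m = m := by rw [map_one]; rfl

theorem rho_inv_apply (g : G) (m : M) : ρ g (ρ g⁻¹ m) = m := by
  rw [← rho_mul_apply, mul_inv_cancel, rho_one_apply]

theorem op_conj (g h : G) (m : M) : op ρ (g * h * g⁻¹) m = ρ g (op ρ h (ρ g⁻¹ m)) := by
  rw [op_apply, op_apply, map_add, rho_inv_apply, rho_mul_apply, rho_mul_apply]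

/-- The relations of a set of 3-transpositions on a module of exponent two. -/
structure Rel (D : Set G) : Prop where
  two : ∀ m : M, m + m = 0
  comm : ∀ x ∈ D, ∀ y ∈ D, Commute x y → ∀ m : M, op ρ x (op ρ y m) = 0
  ncomm : ∀ x ∈ D, ∀ y ∈ D, ¬ Commute x y → ∀ m : M, op ρ x (op ρ y (op ρ x m)) = op ρ x m

variable {ρ} {D : Set G}

theorem Rel.sq (h : Rel ρ D) {x : G} (hx : x ∈ D) (m : M) : op ρ x (op ρ x m) = 0 :=
  h.comm x hx x hx (Commute.refl x) m

theorem Rel.two_left (h : Rel ρ D) (m n : M) : m + (m + n) = n := by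
  rw [← add_assoc, h.two, zero_add]

theorem Rel.eq_of_add (h : Rel ρ D) {m n : M} (hmn : m + n = 0) : m = n := by
  rw [← add_zero m, ← h.two n, ← add_assoc, hmn, zero_add]

theorem Rel.rho_eq (h : Rel ρ D) (g : G) (m : M) : ρ g m = op ρ g m + m := by
  rw [op_apply, add_assoc, h.two, add_zero]

/-- The operator of a conjugate by an involution. -/
theorem Rel.op_inv_conj (h : Rel ρ D) {g : G} (hg : g * g = 1) (x : G) (m : M) :
    op ρ (g * x * g) m = op ρ g (op ρ x (op ρ g m + m)) + op ρ x (op ρ g m + m) := by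
  have hg' : g⁻¹ = g := inv_eq_of_mul_eq_one_left hg
  have h1 := op_conj ρ g x m
  rw [hg'] at h1
  rw [h1, h.rho_eq g m, h.rho_eq g]

end Cfsg.Agent.TransUnique
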